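import Mathlib

universe u
open CategoryTheory Limits AlgebraicGeometry TopologicalSpace Opposite

namespace Groth.Agent.NormalizationLemmas

theorem isIso_app_of_isBasis {X N : Scheme.{u}} (g : X ⟶ N) {B : Set N.Opens} (hB : Opens.IsBasis B)
    (h : ∀ W ∈ B, IsIso (g.app W)) (U : N.Opens) : IsIso (g.app U) := by
  let G : TopCat.Sheaf CommRingCat N.carrier := (TopCat.Sheaf.pushforward _ g.base).obj X.sheaf
  let φ : N.sheaf ⟶ G := ⟨g.c⟩
  have key : ∀ y : N, IsIso ((TopCat.Presheaf.stalkFunctor CommRingCat y).map φ.1) := by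
    intro y
    rw [ConcreteCategory.isIso_iff_bijective]
    refine ⟨fun a b hab ↦ ?_, fun c ↦ ?_⟩
    · obtain ⟨V₁, hy₁, s, rfl⟩ := N.presheaf.exists_germ_eq a
      obtain ⟨V₂, hy₂, t, rfl⟩ := N.presheaf.exists_germ_eq b
      erw [TopCat.Presheaf.stalkFunctor_map_germ_apply, TopCat.Presheaf.stalkFunctor_map_germ_apply] at hab
      obtain ⟨V, hyV, i₁, i₂, e⟩ := TopCat.Presheaf.germ_eq G.1 y hy₁ hy₂ _ _ hab
      obtain ⟨W, hWB, hyW, hWV⟩ := Opens.isBasis_iff_nbhd.mp hB hyV
      have := (@ConcreteCategory.bijective_of_isIso _ _ _ _ _ _ _ _ (g.app W) (h W hWB)).1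
      have m : ∀ (V' : N.Opens) (i : V ⟶ V') (z : G.1.obj (op V')), G.1.map (homOfLE hWV ≫ i).op z = G.1.map (homOfLE hWV).op (G.1.map i.op z) := fun V' i z ↦ by
        rw [op_comp, G.1.map_comp]; rfl
      have n : ∀ (V' : N.Opens) (j : W ⟶ V') (r : Γ(N, V')), g.app W (N.presheaf.map j.op r) = G.1.map j.op (g.app V' r) :=
        fun V' j r ↦ NatTrans.naturality_apply g.c j.op r
      have e2 := this ((n V₁ (homOfLE hWV ≫ i₁) s).trans ((m V₁ i₁ _).trans ((congrArg (G.1.map (homOfLE hWV).op) e).trans ((m V₂ i₂ _).symm.trans (n V₂ (homOfLE hWV ≫ i₂) t).symm))))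
      exact N.presheaf.germ_ext W hyW (homOfLE hWV ≫ i₁) (homOfLE hWV ≫ i₂) e2
    · obtain ⟨V, hy, s, rfl⟩ := TopCat.Presheaf.exists_germ_eq G.1 c
      obtain ⟨W, hWB, hyW, hWV⟩ := Opens.isBasis_iff_nbhd.mp hB hy
      obtain ⟨r, hr⟩ := (@ConcreteCategory.bijective_of_isIso _ _ _ _ _ _ _ _ (g.app W) (h W hWB)).2 (G.1.map (homOfLE hWV).op s)
      refine ⟨N.presheaf.germ W y hyW r, ?_⟩
      erw [TopCat.Presheaf.stalkFunctor_map_germ_apply]
      change TopCat.Presheaf.germ G.1 W y hyW (g.app W r) = _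
      rw [hr]
      exact TopCat.Presheaf.germ_res_apply G.1 (homOfLE hWV) y hyW s
  have : IsIso φ := TopCat.Presheaf.isIso_of_stalkFunctor_map_iso φ
  have : IsIso φ.1 := inferInstanceAs (IsIso ((TopCat.Sheaf.forget _ _).map φ))
  exact inferInstanceAs (IsIso (φ.1.app (op U)))

theorem isIso_toNormalization_app {X S : Scheme.{u}} (f : X ⟶ S) [UniversallyClosed f] [QuasiSeparated f]
    (U : f.normalization.Opens) : IsIso (f.toNormalization.app U) := by
  set g := f.toNormalization
  have key : ∀ V : S.affineOpens, IsIso (g.app (f.fromNormalization ⁻¹ᵁ (V : S.Opens))) := by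
    intro V
    letI := (f.app V.1).hom.toAlgebra
    have : IsAffine V.1.toScheme := V.2
    have hint : (f.app V.1).hom.IsIntegral := by
      have h := isIntegral_appTop_of_universallyClosed (f ∣_ V.1)
      rw [morphismRestrict_appTop] at h
      have gen : ∀ V' : S.Opens, V' = V.1 → (f.app V').hom.IsIntegral → (f.app V.1).hom.IsIntegral := by
        rintro _ rfl hh; exact hh
      exact gen _ (V.1.ι_image_top) ((RingHom.isIntegral_respectsIso.cancel_right_isIso (f.app (V.1.ι ''ᵁ ⊤)) (X.presheaf.map (eqToHom (image_morphismRestrict_preimage f V.1 ⊤)).op)).mp h)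
    rw [f.toNormalization_app_preimage V]
    have : IsIso (CommRingCat.ofHom (integralClosure Γ(S, V.1) Γ(X, f ⁻¹ᵁ V.1)).val.toRingHom) := by
      rw [ConcreteCategory.isIso_iff_bijective]
      refine ⟨Subtype.val_injective, fun b ↦ ⟨⟨b, ?_⟩, rfl⟩⟩
      exact hint b
    refine @IsIso.comp_isIso _ _ _ _ _ _ _ inferInstance ?_
    exact @IsIso.comp_isIso _ _ _ _ _ _ _ this inferInstance
  let B : Set f.normalization.Opens :=
    {W | ∃ (V : S.affineOpens) (r : Γ(f.normalization, f.fromNormalization ⁻¹ᵁ V.1)), W = f.normalization.basicOpen r}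
  refine isIso_app_of_isBasis g (B := B) ?_ ?_ U
  · refine Opens.isBasis_iff_nbhd.mpr fun {O y} hy ↦ ?_
    obtain ⟨V, hV, hyV, -⟩ := exists_isAffineOpen_mem_and_subset (U := (⊤ : S.Opens)) (x := f.fromNormalization y) trivial
    obtain ⟨r, hr, hyr⟩ := (hV.preimage f.fromNormalization).exists_basicOpen_le (V := O) ⟨y, hy⟩ hyV
    exact ⟨_, ⟨⟨V, hV⟩, r, rfl⟩, hyr, hr⟩
  rintro _ ⟨V, r, rfl⟩
  let W := f.fromNormalization ⁻¹ᵁ V.1
  have hW : IsAffineOpen W := V.2.preimage _
  letI : Algebra Γ(f.normalization, W) Γ(f.normalization, f.normalization.basicOpen r) :=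
    (f.normalization.presheaf.map (homOfLE (f.normalization.basicOpen_le r)).op).hom.toAlgebra
  have hloc : IsLocalization.Away r Γ(f.normalization, f.normalization.basicOpen r) := hW.isLocalization_basicOpen r
  letI : Algebra Γ(X, g ⁻¹ᵁ W) Γ(X, X.basicOpen (g.app W r)) :=
    (X.presheaf.map (homOfLE (X.basicOpen_le _)).op).hom.toAlgebra
  have hlocX : IsLocalization.Away (g.app W r) Γ(X, X.basicOpen (g.app W r)) :=
    isLocalization_basicOpen_of_qcqs (g.isCompact_preimage hW.isCompact) (g.isQuasiSeparated_preimage hW.isQuasiSeparated) _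
  let e : Γ(f.normalization, W) ≃+* Γ(X, g ⁻¹ᵁ W) := (@asIso _ _ _ _ (g.app W) (key V)).commRingCatIsoToRingEquiv
  have hmap : Submonoid.map e.toRingHom (Submonoid.powers r) = Submonoid.powers (g.app W r) := by
    rw [Submonoid.map_powers]; rfl
  let e' : Γ(f.normalization, f.normalization.basicOpen r) ≃+* Γ(X, X.basicOpen (g.app W r)) :=
    IsLocalization.ringEquivOfRingEquiv (M := Submonoid.powers r) (T := Submonoid.powers (g.app W r))
      Γ(f.normalization, f.normalization.basicOpen r) Γ(X, X.basicOpen (g.app W r)) e hmap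
  have heq : g ⁻¹ᵁ f.normalization.basicOpen r = X.basicOpen (g.app W r) := Scheme.preimage_basicOpen _ _
  have main : g.app (f.normalization.basicOpen r) = CommRingCat.ofHom e'.toRingHom ≫ X.presheaf.map (eqToHom heq).op := by
    apply CommRingCat.hom_ext
    apply IsLocalization.ringHom_ext (Submonoid.powers r)
    ext a
    simp only [RingHom.comp_apply, CommRingCat.hom_comp, CommRingCat.hom_ofHom]
    change g.app (f.normalization.basicOpen r) (f.normalization.presheaf.map _ a) = X.presheaf.map _ (e' (algebraMap _ _ a))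
    rw [IsLocalization.ringEquivOfRingEquiv_eq]
    change _ = X.presheaf.map _ (X.presheaf.map _ (g.app W a))
    simp only [← CommRingCat.comp_apply, g.app_eq_appLE, Scheme.Hom.map_appLE, Scheme.Hom.appLE_map]
    rfl
  rw [main]
  have : IsIso (CommRingCat.ofHom e'.toRingHom) := inferInstanceAs (IsIso e'.toCommRingCatIso.hom)
  infer_instance

end Groth.Agent.NormalizationLemmas
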